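import Mathlib.Algebra.MvPolynomial.Eval
import Mathlib.Algebra.Algebra.Subalgebra.Lattice
import Mathlib.RingTheory.Ideal.Basic

/-! A general elimination lemma in polynomial rings. -/

set_option autoImplicit false

namespace Groth.Agent.Helper19.Lie3

open MvPolynomial

theorem exists_elim {σ A : Type*} [CommRing A] (Sub : Subalgebra A (MvPolynomial σ A))
    (z : MvPolynomial σ A) (hz : z ∈ Sub) (Iid : Ideal (MvPolynomial σ A))
    (hX : ∀ j, ∃ n : ℕ, ∃ t ∈ Sub, z ^ n * X j - t ∈ Iid) (y : MvPolynomial σ A) :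
    ∃ n : ℕ, ∃ t ∈ Sub, z ^ n * y - t ∈ Iid := by
  induction y using MvPolynomial.induction_on with
  | C a =>
    refine ⟨0, C a, ?_, by simp⟩
    rw [← MvPolynomial.algebraMap_eq]; exact Sub.algebraMap_mem a
  | add p q hp hq =>
    obtain ⟨n1, t1, ht1, h1⟩ := hp
    obtain ⟨n2, t2, ht2, h2⟩ := hq
    refine ⟨n1 + n2, z ^ n2 * t1 + z ^ n1 * t2,
      Sub.add_mem (Sub.mul_mem (Sub.pow_mem hz _) ht1) (Sub.mul_mem (Sub.pow_mem hz _) ht2), ?_⟩
    have : z ^ (n1 + n2) * (p + q) - (z ^ n2 * t1 + z ^ n1 * t2) =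
        z ^ n2 * (z ^ n1 * p - t1) + z ^ n1 * (z ^ n2 * q - t2) := by ring
    rw [this]
    exact add_mem (Ideal.mul_mem_left _ _ h1) (Ideal.mul_mem_left _ _ h2)
  | mul_X p j hp =>
    obtain ⟨n, t, ht, h1⟩ := hp
    obtain ⟨m, tj, htj, h2⟩ := hX j
    refine ⟨n + m, t * tj, Sub.mul_mem ht htj, ?_⟩
    have : z ^ (n + m) * (p * X j) - t * tj =
        (z ^ m * X j) * (z ^ n * p - t) + t * (z ^ m * X j - tj) := by ring
    rw [this]
    exact add_mem (Ideal.mul_mem_left _ _ h1) (Ideal.mul_mem_left _ _ h2)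

end Groth.Agent.Helper19.Lie3
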