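import Groth.Agent.Lib.Helper19.Lie3.Transport
import Mathlib.RingTheory.Localization.FractionRing
import Mathlib.RingTheory.Ideal.Colon
import Mathlib.RingTheory.Ideal.MinimalPrime.Basic

/-! Final consequences: primality of `J` over domains. -/

set_option autoImplicit false

namespace Groth.Agent.Helper19.Lie3.NC

open MvPolynomial Finsupp

variable (A : Type*) [CommRing A]

/-- the composite `Θ ∘ α` as a ring homomorphism -/
noncomputable def Θα : DD A →+* Sw A := (Θ A).toRingHom.comp (α A).toRingHom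

theorem idJ_eq_ker [Nontrivial A] : Lie3Mod.idJ A = RingHom.ker (Θα A) := by
  ext x
  rw [mem_idJ_iff_Θ, RingHom.mem_ker]
  rfl

instance [IsDomain A] : IsDomain (Sw A) :=
  IsLocalization.isDomain_localization (by
    rw [Submonoid.powers_le]; exact w_mem_nonZeroDivisors A)

theorem idJ_isPrime [IsDomain A] : (Lie3Mod.idJ A).IsPrime := by
  rw [idJ_eq_ker]
  exact RingHom.ker_isPrime _

theorem L1_not_mem_idJ [Nontrivial A] : Lie3Mod.L1 A ∉ Lie3Mod.idJ A := by
  rw [mem_idJ_iff_Θ, α_L1, Θ_X A 0 (by decide) (by decide) (by decide)]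
  intro h0
  have : (u : DD A) = 0 := ιw_injective A (by rw [h0, map_zero])
  exact MvPolynomial.X_ne_zero _ this


/-- `J · L ⊆ I`. -/
theorem mul_mem_idI {x l : DD A} (hx : x ∈ Lie3Mod.idJ A) (hl : l ∈ Lie3Mod.idL A) :
    x * l ∈ Lie3Mod.idI A := by
  obtain ⟨q, hq, r, rfl⟩ := (Groth.Agent.Helper19.Lie3.mem_idJ_iff A).mp hx
  have h1 := Groth.Agent.Helper19.Lie3.mul_detM_mem_idI A hl
  have : (q + r * Lie3Mod.detM A) * l = l * q + r * (l * Lie3Mod.detM A) := by ring
  rw [this]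
  exact add_mem (Ideal.mul_mem_left _ _ hq) (Ideal.mul_mem_left _ _ h1)

theorem idJ_mem_minimalPrimes [IsDomain A] :
    Lie3Mod.idJ A ∈ (Lie3Mod.idI A).minimalPrimes := by
  refine ⟨⟨idJ_isPrime A, Groth.Agent.Helper19.Lie3.idI_le_idJ A⟩, ?_⟩
  rintro q ⟨hqp, hIq⟩ hqJ x hx
  have h1 : x * Lie3Mod.L1 A ∈ q :=
    hIq (mul_mem_idI A hx (Groth.Agent.Helper19.Lie3.L1_mem_idL A))
  rcases hqp.mem_or_mem h1 with h | h
  · exact h
  · exact absurd (hqJ h) (L1_not_mem_idJ A)

/-- `(I : L) = J`. -/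
theorem colon_eq [Nontrivial A] :
    (Lie3Mod.idI A).colon (Lie3Mod.idL A : Set (DD A)) = Lie3Mod.idJ A := by
  apply le_antisymm
  · intro x hx
    rw [Submodule.mem_colon] at hx
    have h1 := hx (Lie3Mod.L3 A) (Groth.Agent.Helper19.Lie3.L3_mem_idL A)
    apply L3_regular_mod_idJ A
    rw [smul_eq_mul, mul_comm] at h1
    exact Groth.Agent.Helper19.Lie3.idI_le_idJ A h1
  · intro x hx
    rw [Submodule.mem_colon]
    intro l hl
    rw [smul_eq_mul]
    exact mul_mem_idI A hx hl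

end Groth.Agent.Helper19.Lie3.NC
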