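import Groth.Agent.Lib.Helper19.Lie3.Final
import Mathlib.RingTheory.Flat.TorsionFree

/-! Flatness over the integers. -/

set_option autoImplicit false

namespace Groth.Agent.Helper19.Lie3.NC

open MvPolynomial Finsupp

theorem idI_eq_inf (A : Type*) [CommRing A] :
    Lie3Mod.idI A = Lie3Mod.idJ A ⊓ Lie3Mod.idL A := by
  apply le_antisymm
  · exact le_inf (Groth.Agent.Helper19.Lie3.idI_le_idJ A) (Groth.Agent.Helper19.Lie3.idI_le_idL A)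
  · rintro x ⟨hxJ, hxL⟩
    obtain ⟨q, hq, r, rfl⟩ := (Groth.Agent.Helper19.Lie3.mem_idJ_iff A).mp hxJ
    have hr : r * Lie3Mod.detM A ∈ Lie3Mod.idL A := by
      have := sub_mem hxL (Groth.Agent.Helper19.Lie3.idI_le_idL A hq)
      simpa using this
    exact add_mem hq (Groth.Agent.Helper19.Lie3.mul_detM_mem_idI A
      (Groth.Agent.Helper19.Lie3.detM_regular_mod_idL A hr))

theorem intCast_ne_zero_Sw {n : ℤ} (hn : n ≠ 0) : (n : Sw ℤ) ≠ 0 := by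
  intro h0
  have h1 : algebraMap (DD ℤ) (Sw ℤ) (n : DD ℤ) = algebraMap (DD ℤ) (Sw ℤ) 0 := by
    rw [map_intCast, map_zero]; exact h0
  have h2 : (n : DD ℤ) = 0 := ιw_injective ℤ h1
  have h3 : (C n : DD ℤ) = C 0 := by
    rw [map_zero]; rw [← h2]; simp
  exact hn (MvPolynomial.C_injective _ _ h3)

theorem zsmul_mem_idJ {n : ℤ} (hn : n ≠ 0) {y : DD ℤ} (h : n • y ∈ Lie3Mod.idJ ℤ) :
    y ∈ Lie3Mod.idJ ℤ := by
  rw [mem_idJ_iff_Θ] at h ⊢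
  rw [map_zsmul, map_zsmul, zsmul_eq_mul] at h
  rcases mul_eq_zero.mp h with h1 | h1
  · exact absurd h1 (intCast_ne_zero_Sw hn)
  · exact h1

theorem zsmul_mem_idL {n : ℤ} (hn : n ≠ 0) {y : DD ℤ} (h : n • y ∈ Lie3Mod.idL ℤ) :
    y ∈ Lie3Mod.idL ℤ := by
  rw [Groth.Agent.Helper19.Lie3.mem_idL_iff] at h ⊢
  rw [map_zsmul, zsmul_eq_mul] at h
  rcases mul_eq_zero.mp h with h1 | h1
  · exfalso
    have h3 : (C n : DD ℤ) = C 0 := by
      rw [map_zero]; rw [← h1]; simp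
    exact hn (MvPolynomial.C_injective _ _ h3)
  · exact h1

theorem zsmul_mem_idI {n : ℤ} (hn : n ≠ 0) {y : DD ℤ} (h : n • y ∈ Lie3Mod.idI ℤ) :
    y ∈ Lie3Mod.idI ℤ := by
  rw [idI_eq_inf] at h ⊢
  exact ⟨zsmul_mem_idJ hn h.1, zsmul_mem_idL hn h.2⟩

theorem flat_of_zsmul_mem (K : Ideal (DD ℤ))
    (hK : ∀ {n : ℤ}, n ≠ 0 → ∀ {y : DD ℤ}, n • y ∈ K → y ∈ K) :
    Module.Flat ℤ (DD ℤ ⧸ K) := by
  rw [Module.Flat.flat_iff_torsion_eq_bot_of_isBezout, eq_bot_iff]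
  intro x hx
  rw [Submodule.mem_torsion_iff] at hx
  obtain ⟨a, ha⟩ := hx
  obtain ⟨y, rfl⟩ := Ideal.Quotient.mk_surjective x
  have ha0 : (a : ℤ) ≠ 0 := nonZeroDivisors.coe_ne_zero a
  have h1 : (a : ℤ) • (Ideal.Quotient.mk K y) = 0 := ha
  rw [← map_zsmul, Ideal.Quotient.eq_zero_iff_mem] at h1
  rw [Submodule.mem_bot, Ideal.Quotient.eq_zero_iff_mem]
  exact hK ha0 h1

theorem flat_idJ : Module.Flat ℤ (DD ℤ ⧸ Lie3Mod.idJ ℤ) :=
  flat_of_zsmul_mem _ (fun hn _ h => zsmul_mem_idJ hn h)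

theorem flat_idI : Module.Flat ℤ (DD ℤ ⧸ Lie3Mod.idI ℤ) :=
  flat_of_zsmul_mem _ (fun hn _ h => zsmul_mem_idI hn h)

theorem idL_isPrime (A : Type*) [CommRing A] [IsDomain A] : (Lie3Mod.idL A).IsPrime := by
  have : Lie3Mod.idL A = RingHom.ker (Groth.Agent.Helper19.Lie3.ρ A).toRingHom := by
    ext x
    rw [Groth.Agent.Helper19.Lie3.mem_idL_iff, RingHom.mem_ker]
    rfl
  rw [this]
  exact RingHom.ker_isPrime _

theorem idI_isRadical (A : Type*) [CommRing A] [IsDomain A] : (Lie3Mod.idI A).IsRadical := by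
  rw [idI_eq_inf]
  exact Ideal.IsRadical.inf (idJ_isPrime A).isRadical (idL_isPrime A).isRadical

end Groth.Agent.Helper19.Lie3.NC
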