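import Groth.Agent.Lib.Helper19.Lie3.WOrd

/-! A Gröbner-type criterion for regular sequences with pairwise coprime leading monomials. -/

set_option autoImplicit false

namespace Groth.Agent.Helper19.Lie3

open MvPolynomial
open scoped MonomialOrder

variable {σ R : Type*} [CommRing R] (m : MonomialOrder σ)

/-- every nonzero element of the span has leading monomial divisible by that of some element of `G` -/
def IsGB (G : Set (MvPolynomial σ R)) : Prop :=
  ∀ y ∈ Ideal.span G, y ≠ 0 → ∃ g ∈ G, m.degree g ≤ m.degree y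

theorem isGB_empty : IsGB m (∅ : Set (MvPolynomial σ R)) := by
  intro y hy hy0
  simp only [Ideal.span_empty, Ideal.mem_bot] at hy
  exact absurd hy hy0

theorem le_of_le_add_of_disjoint {a b c : σ →₀ ℕ} (h : a ≤ b + c)
    (hd : Disjoint a.support c.support) : a ≤ b := by
  intro j
  by_cases hc : c j = 0
  · have := h j
    simpa [hc] using this
  · have hcj : j ∈ c.support := Finsupp.mem_support_iff.mpr hc
    have : j ∉ a.support := fun ha => (Finset.disjoint_left.mp hd ha) hcj
    rw [Finsupp.notMem_support_iff] at this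
    rw [this]; exact Nat.zero_le _

/-- reduction modulo a set with unit leading coefficients -/
theorem exists_reduce {G : Set (MvPolynomial σ R)} (hu : ∀ g ∈ G, IsUnit (m.leadingCoeff g))
    (x : MvPolynomial σ R) :
    ∃ z ∈ Ideal.span G, ∃ r : MvPolynomial σ R, x = z + r ∧
      ∀ c ∈ r.support, ∀ g ∈ G, ¬ (m.degree g ≤ c) := by
  obtain ⟨g, r, h1, -, h3⟩ := m.div_set hu x
  refine ⟨_, ?_, r, h1, h3⟩
  rw [Finsupp.linearCombination_apply]
  refine Ideal.sum_mem _ fun b _ => ?_
  exact Ideal.mul_mem_left _ _ (Ideal.subset_span b.2)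

theorem reduced_mul_not {G : Set (MvPolynomial σ R)} (hG : IsGB m G)
    {f : MvPolynomial σ R} (hf : IsUnit (m.leadingCoeff f))
    (hcop : ∀ g ∈ G, Disjoint (m.degree g).support (m.degree f).support)
    {r : MvPolynomial σ R} (hr : ∀ c ∈ r.support, ∀ g ∈ G, ¬ (m.degree g ≤ c))
    (hr0 : r ≠ 0) {z : MvPolynomial σ R} (hz : z ∈ Ideal.span G) (hz0 : z ≠ 0) :
    m.degree z ≠ m.degree (r * f) := by
  intro heq
  obtain ⟨g₀, hg₀, hle⟩ := hG z hz hz0
  rw [heq, m.degree_mul_of_isRegular_right hr0 hf.isRegular] at hle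
  have := le_of_le_add_of_disjoint hle (hcop g₀ hg₀)
  exact hr _ (m.degree_mem_support hr0) g₀ hg₀ this

theorem IsGB.insert {G : Set (MvPolynomial σ R)} (hG : IsGB m G)
    (hu : ∀ g ∈ G, IsUnit (m.leadingCoeff g))
    {f : MvPolynomial σ R} (hf : IsUnit (m.leadingCoeff f))
    (hcop : ∀ g ∈ G, Disjoint (m.degree g).support (m.degree f).support) :
    IsGB m (insert f G) := by
  intro y hy hy0
  rw [Ideal.mem_span_insert] at hy
  obtain ⟨a, z, hz, rfl⟩ := hy
  obtain ⟨z₁, hz₁, r, rfl, hr⟩ := exists_reduce m hu a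
  set z' := z₁ * f + z with hz'
  have hz'mem : z' ∈ Ideal.span G := add_mem (Ideal.mul_mem_right _ _ hz₁) hz
  have hy_eq : (z₁ + r) * f + z = z' + r * f := by rw [hz']; ring
  rw [hy_eq] at hy0 ⊢
  by_cases hr0 : r = 0
  · subst hr0
    simp only [zero_mul, add_zero] at hy0 ⊢
    obtain ⟨g, hg, hle⟩ := hG z' hz'mem hy0
    exact ⟨g, Set.mem_insert_of_mem _ hg, hle⟩
  have hdeg : m.degree (r * f) = m.degree r + m.degree f :=
    m.degree_mul_of_isRegular_right hr0 hf.isRegular
  by_cases hz0 : z' = 0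
  · rw [hz0, zero_add, hdeg]
    exact ⟨f, Set.mem_insert _ _, le_add_self⟩
  have hne := reduced_mul_not m hG hf hcop hr hr0 hz'mem hz0
  have hmax := m.degree_add_of_ne hne
  rcases le_total (m.toSyn (m.degree z')) (m.toSyn (m.degree (r * f))) with h | h
  · rw [sup_eq_right.mpr h] at hmax
    have := m.toSyn.injective hmax
    rw [this, hdeg]
    exact ⟨f, Set.mem_insert _ _, le_add_self⟩
  · rw [sup_eq_left.mpr h] at hmax
    have := m.toSyn.injective hmax
    rw [this]
    obtain ⟨g, hg, hle⟩ := hG z' hz'mem hz0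
    exact ⟨g, Set.mem_insert_of_mem _ hg, hle⟩

/-- the new element is a non-zero-divisor modulo the span of `G` -/
theorem IsGB.regular {G : Set (MvPolynomial σ R)} (hG : IsGB m G)
    (hu : ∀ g ∈ G, IsUnit (m.leadingCoeff g))
    {f : MvPolynomial σ R} (hf : IsUnit (m.leadingCoeff f))
    (hcop : ∀ g ∈ G, Disjoint (m.degree g).support (m.degree f).support)
    {x : MvPolynomial σ R} (hx : x * f ∈ Ideal.span G) : x ∈ Ideal.span G := by
  obtain ⟨z₁, hz₁, r, rfl, hr⟩ := exists_reduce m hu x
  by_cases hr0 : r = 0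
  · subst hr0; simpa using hz₁
  exfalso
  have hrf : r * f ∈ Ideal.span G := by
    have : r * f = (z₁ + r) * f - z₁ * f := by ring
    rw [this]
    exact sub_mem hx (Ideal.mul_mem_right _ _ hz₁)
  have hrf0 : r * f ≠ 0 := by
    intro h0
    have := m.leadingCoeff_mul_of_isRegular_right (f := r) hf.isRegular
    rw [h0, m.leadingCoeff_zero] at this
    have h2 : m.leadingCoeff r = 0 := by
      rcases hf with ⟨u, hu'⟩
      have := this.symm
      rw [← hu'] at this
      exact (Units.mul_left_eq_zero u).mp this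
    exact hr0 (m.leadingCoeff_eq_zero_iff.mp h2)
  exact reduced_mul_not m hG hf hcop hr hr0 hrf hrf0 rfl

end Groth.Agent.Helper19.Lie3
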