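import Groth.Agent.Lib.Helper19.Lie3.GB

/-! Recognising leading terms for the weighted order. -/

set_option autoImplicit false

namespace Groth.Agent.Helper19.Lie3

open MvPolynomial
open scoped MonomialOrder

variable {σ : Type*} [LinearOrder σ] [WellFoundedGT σ] (ω : σ → ℕ) {R : Type*} [CommRing R]

/-- all monomials have weight `< N` -/
def WLt (N : ℕ) (p : MvPolynomial σ R) : Prop := ∀ b ∈ p.support, Finsupp.weight ω b < N

theorem wLt_monomial {N : ℕ} {d : σ →₀ ℕ} (c : R) (h : Finsupp.weight ω d < N) :
    WLt ω N (monomial d c) := by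
  classical
  intro b hb
  have := MvPolynomial.support_monomial_subset hb
  rw [Finset.mem_singleton] at this
  rw [this]; exact h

theorem WLt.add {N : ℕ} {p q : MvPolynomial σ R} (hp : WLt ω N p) (hq : WLt ω N q) :
    WLt ω N (p + q) := by
  classical
  intro b hb
  rcases Finset.mem_union.mp (MvPolynomial.support_add hb) with h | h
  · exact hp b h
  · exact hq b h

theorem wLt_zero {N : ℕ} : WLt ω N (0 : MvPolynomial σ R) := by
  intro b hb; simp at hb

theorem degree_of_top {F rest : MvPolynomial σ R} {d : σ →₀ ℕ} {c : R}
    (hF : F = monomial d c + rest) (hc : c ≠ 0)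
    (hrest : WLt ω (Finsupp.weight ω d) rest) :
    (wOrd ω).degree F = d ∧ (wOrd ω).leadingCoeff F = c := by
  classical
  have hcoef0 : rest.coeff d = 0 := by
    by_contra h
    exact lt_irrefl _ (hrest d (MvPolynomial.mem_support_iff.mpr h))
  have hcoef : F.coeff d = c := by
    rw [hF, coeff_add, coeff_monomial, if_pos rfl, hcoef0, add_zero]
  have hdeg : (wOrd ω).degree F = d := by
    apply (wOrd ω).toSyn.injective
    apply le_antisymm
    · rw [MonomialOrder.degree_le_iff]
      intro b hb
      rw [hF] at hb
      rcases Finset.mem_union.mp (MvPolynomial.support_add hb) with h | h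
      · have := MvPolynomial.support_monomial_subset h
        rw [Finset.mem_singleton] at this
        rw [this]
      · exact le_of_lt (wOrd_lt_of_weight_lt ω (hrest b h))
    · apply MonomialOrder.le_degree
      rw [MvPolynomial.mem_support_iff, hcoef]; exact hc
  refine ⟨hdeg, ?_⟩
  rw [MonomialOrder.leadingCoeff, hdeg, hcoef]

end Groth.Agent.Helper19.Lie3
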