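import Groth.Agent.Lib.Helper19.Lie3.Reg

/-! `sg` is a non-zero-divisor modulo `J`. -/

set_option autoImplicit false

namespace Groth.Agent.Helper19.Lie3.NC

open MvPolynomial Finsupp

variable (A : Type*) [CommRing A]

/-- the Jacobi ideal in new coordinates -/
noncomputable def idI' : Ideal (DD A) := Ideal.span {q1 A, q2 A, q3 A}
/-- the linear ideal in new coordinates -/
noncomputable def idL' : Ideal (DD A) := Ideal.span {u, v, w}
/-- the ideal `J` in new coordinates -/
noncomputable def idJ' : Ideal (DD A) := Ideal.span {q1 A, q2 A, q3 A, dM A}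

theorem q1_mem_I : q1 A ∈ idI' A := Ideal.subset_span (by simp)
theorem q2_mem_I : q2 A ∈ idI' A := Ideal.subset_span (by simp)
theorem q3_mem_I : q3 A ∈ idI' A := Ideal.subset_span (by simp)
theorem u_mem_L : (u : DD A) ∈ idL' A := Ideal.subset_span (by simp)
theorem v_mem_L : (v : DD A) ∈ idL' A := Ideal.subset_span (by simp)
theorem w_mem_L : (w : DD A) ∈ idL' A := Ideal.subset_span (by simp)
theorem dM_mem_J : dM A ∈ idJ' A := Ideal.subset_span (by simp)

theorem idJ'_eq : idJ' A = idI' A ⊔ Ideal.span {dM A} := by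
  rw [idJ', idI', ← Ideal.span_union]
  congr 1
  ext x
  simp only [Set.mem_insert_iff, Set.mem_singleton_iff, Set.mem_union]
  tauto

theorem idI'_le_idJ' : idI' A ≤ idJ' A := by
  rw [idJ'_eq]; exact le_sup_left

theorem mem_J_iff {x : DD A} : x ∈ idJ' A ↔ ∃ q ∈ idI' A, ∃ r : DD A, x = q + r * dM A := by
  rw [idJ'_eq, Submodule.mem_sup]
  constructor
  · rintro ⟨q, hq, z, hz, rfl⟩
    obtain ⟨r, rfl⟩ := Ideal.mem_span_singleton'.mp hz
    exact ⟨q, hq, r, rfl⟩
  · rintro ⟨q, hq, r, rfl⟩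
    exact ⟨q, hq, r * dM A, Ideal.mem_span_singleton'.mpr ⟨r, rfl⟩, rfl⟩

theorem idI'_le_idL' : idI' A ≤ idL' A := by
  rw [idI', Ideal.span_le]
  intro x hx
  simp only [Set.mem_insert_iff, Set.mem_singleton_iff] at hx
  have h1 := u_mem_L A
  have h2 := v_mem_L A
  have h3 := w_mem_L A
  rcases hx with rfl | rfl | rfl
  · have : q1 A = h * u + (-g) * v + i * w := by simp only [q1]; ring
    rw [this]
    exact add_mem (add_mem (Ideal.mul_mem_left _ _ h1) (Ideal.mul_mem_left _ _ h2))
      (Ideal.mul_mem_left _ _ h3)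
  · have : q2 A = (-e) * u + (-h) * v + (v - f) * w := by simp only [q2]; ring
    rw [this]
    exact add_mem (add_mem (Ideal.mul_mem_left _ _ h1) (Ideal.mul_mem_left _ _ h2))
      (Ideal.mul_mem_left _ _ h3)
  · have : q3 A = (-f) * u + (-i) * v + c * w := by simp only [q3]; ring
    rw [this]
    exact add_mem (add_mem (Ideal.mul_mem_left _ _ h1) (Ideal.mul_mem_left _ _ h2))
      (Ideal.mul_mem_left _ _ h3)

theorem dM_u : dM A * u = (-(h * c) + (v - f) * i) * q1 A + (g * c - i ^ 2) * q2 A +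
    (-(g * (v - f)) + i * h) * q3 A := by
  simp only [dM, q1, q2, q3]; ring

theorem dM_v : dM A * v = (e * c - (v - f) * f) * q1 A + (h * c + i * f) * q2 A +
    (-(h * (v - f)) - i * e) * q3 A := by
  simp only [dM, q1, q2, q3]; ring

theorem dM_w : dM A * w = (e * i - h * f) * q1 A + (h * i + g * f) * q2 A +
    (-(h ^ 2) - g * e) * q3 A := by
  simp only [dM, q1, q2, q3]; ring

theorem comb_mem_I (a b d : DD A) : a * q1 A + b * q2 A + d * q3 A ∈ idI' A :=
  add_mem (add_mem (Ideal.mul_mem_left _ _ (q1_mem_I A)) (Ideal.mul_mem_left _ _ (q2_mem_I A)))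
    (Ideal.mul_mem_left _ _ (q3_mem_I A))

theorem mul_dM_mem_I {r : DD A} (hr : r ∈ idL' A) : r * dM A ∈ idI' A := by
  rw [idL'] at hr
  refine Submodule.span_induction ?_ ?_ ?_ ?_ hr
  · intro x hx
    simp only [Set.mem_insert_iff, Set.mem_singleton_iff] at hx
    rcases hx with rfl | rfl | rfl
    · rw [mul_comm, dM_u]; exact comb_mem_I A _ _ _
    · rw [mul_comm, dM_v]; exact comb_mem_I A _ _ _
    · rw [mul_comm, dM_w]; exact comb_mem_I A _ _ _
  · simp
  · intro x y _ _ hx hy
    rw [add_mul]; exact add_mem hx hy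
  · intro a x _ hx
    rw [smul_eq_mul, mul_assoc]; exact Ideal.mul_mem_left _ _ hx

theorem idL'_le_big : idL' A ≤ Ideal.span ({sg A, u, v, w} : Set (DD A)) := by
  rw [idL']
  exact Ideal.span_mono (by intro x hx; exact Set.mem_insert_of_mem _ hx)

variable [Nontrivial A]

/-- Lemma B: `sg` is a non-zero-divisor modulo `J`. -/
theorem sg_regular_mod_J {x : DD A} (hx : x * sg A ∈ idJ' A) : x ∈ idJ' A := by
  obtain ⟨q, hq, r, hr⟩ := (mem_J_iff A).mp hx
  have h1 : r * dM A ∈ Ideal.span ({sg A, u, v, w} : Set (DD A)) := by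
    have : r * dM A = x * sg A - q := by rw [hr]; ring
    rw [this]
    refine sub_mem (Ideal.mul_mem_left _ _ (Ideal.subset_span (by simp))) ?_
    exact idL'_le_big A (idI'_le_idL' A hq)
  have h2 := dM_regular_mod A h1
  rw [Ideal.mem_span_insert] at h2
  obtain ⟨r', l, hl, rfl⟩ := h2
  have hl' : l ∈ idL' A := hl
  have h3 : (x - r' * dM A) * sg A ∈ idI' A := by
    have : (x - r' * dM A) * sg A = q + l * dM A := by
      have e1 : (x - r' * dM A) * sg A = x * sg A - r' * sg A * dM A := by ring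
      rw [e1, hr]; ring
    rw [this]
    exact add_mem hq (mul_dM_mem_I A hl')
  have h4 := sg_regular_mod_I A h3
  have h5 : x = (x - r' * dM A) + r' * dM A := by ring
  rw [h5]
  exact add_mem (idI'_le_idJ' A h4) (Ideal.mul_mem_left _ _ (dM_mem_J A))

theorem sg_pow_regular_mod_J (n : ℕ) {x : DD A} (hx : sg A ^ n * x ∈ idJ' A) : x ∈ idJ' A := by
  induction n with
  | zero => simpa using hx
  | succ n ih =>
    apply ih
    apply sg_regular_mod_J A
    have : sg A ^ n * x * sg A = sg A ^ (n + 1) * x := by ring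
    rw [this]; exact hx

end Groth.Agent.Helper19.Lie3.NC
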