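import Groth.Agent.Lib.Helper19.Lie3.MainW

/-! `J` is the kernel of a homomorphism to a localization of the polynomial ring. -/

set_option autoImplicit false

namespace Groth.Agent.Helper19.Lie3.NC

open MvPolynomial Finsupp

variable (A : Type*) [CommRing A]

/-- polynomials not involving `c`, `f`, `i` -/
noncomputable def Sub6 : Subalgebra A (DD A) :=
  Algebra.adjoin A {p | ∃ j : Fin 9, j ≠ 2 ∧ j ≠ 5 ∧ j ≠ 8 ∧ p = X j}

theorem X_mem_Sub6 (j : Fin 9) (h2 : j ≠ 2) (h5 : j ≠ 5) (h8 : j ≠ 8) : (X j : DD A) ∈ Sub6 A :=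
  Algebra.subset_adjoin ⟨j, h2, h5, h8, rfl⟩

theorem w_mem_Sub6 : (w : DD A) ∈ Sub6 A := X_mem_Sub6 A 3 (by decide) (by decide) (by decide)

/-- `w i` -/
noncomputable def pi8 : DD A := g * v - h * u
/-- `w f` -/
noncomputable def pf5 : DD A := v * w - e * u - h * v
/-- `w² c` -/
noncomputable def pc2 : DD A := pf5 A * u + pi8 A * v

theorem pi8_mem : pi8 A ∈ Sub6 A := by
  have h0 := X_mem_Sub6 A 0 (by decide) (by decide) (by decide)
  have h1 := X_mem_Sub6 A 1 (by decide) (by decide) (by decide)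
  have h6 := X_mem_Sub6 A 6 (by decide) (by decide) (by decide)
  have h7 := X_mem_Sub6 A 7 (by decide) (by decide) (by decide)
  exact (Sub6 A).sub_mem ((Sub6 A).mul_mem h6 h1) ((Sub6 A).mul_mem h7 h0)

theorem pf5_mem : pf5 A ∈ Sub6 A := by
  have h0 := X_mem_Sub6 A 0 (by decide) (by decide) (by decide)
  have h1 := X_mem_Sub6 A 1 (by decide) (by decide) (by decide)
  have h3 := X_mem_Sub6 A 3 (by decide) (by decide) (by decide)
  have h4 := X_mem_Sub6 A 4 (by decide) (by decide) (by decide)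
  have h7 := X_mem_Sub6 A 7 (by decide) (by decide) (by decide)
  exact (Sub6 A).sub_mem ((Sub6 A).sub_mem ((Sub6 A).mul_mem h1 h3) ((Sub6 A).mul_mem h4 h0))
    ((Sub6 A).mul_mem h7 h1)

theorem pc2_mem : pc2 A ∈ Sub6 A := by
  have h0 := X_mem_Sub6 A 0 (by decide) (by decide) (by decide)
  have h1 := X_mem_Sub6 A 1 (by decide) (by decide) (by decide)
  exact (Sub6 A).add_mem ((Sub6 A).mul_mem (pf5_mem A) h0) ((Sub6 A).mul_mem (pi8_mem A) h1)

theorem w_i : w * i - pi8 A = q1 A := by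
  simp only [pi8, q1]; ring

theorem w_f : w * f - pf5 A = (-1) * q2 A := by
  simp only [pf5, q2]; ring

theorem w_c : w ^ 2 * c - pc2 A = v * q1 A + (-u) * q2 A + w * q3 A := by
  simp only [pc2, pf5, pi8, q1, q2, q3]; ring

/-- elimination of `c`, `f`, `i` after multiplying by a power of `w` -/
theorem exists_elim6 (y : DD A) : ∃ n : ℕ, ∃ t ∈ Sub6 A, w ^ n * y - t ∈ idI' A := by
  refine exists_elim (Sub6 A) w (w_mem_Sub6 A) (idI' A) ?_ y
  intro j
  by_cases h8 : j = 8
  · subst h8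
    refine ⟨1, pi8 A, pi8_mem A, ?_⟩
    rw [pow_one, w_i]; exact q1_mem_I A
  by_cases h5 : j = 5
  · subst h5
    refine ⟨1, pf5 A, pf5_mem A, ?_⟩
    rw [pow_one, w_f]; exact Ideal.mul_mem_left _ _ (q2_mem_I A)
  by_cases h2 : j = 2
  · subst h2
    refine ⟨2, pc2 A, pc2_mem A, ?_⟩
    rw [w_c]; exact comb_mem_I A _ _ _
  exact ⟨0, X j, X_mem_Sub6 A j h2 h5 h8, by simp⟩

/-- the localization away from `w` -/
abbrev Sw : Type _ := Localization.Away (w : DD A)

/-- the inverse of `w` -/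
noncomputable def τw : Sw A := IsLocalization.Away.invSelf (w : DD A)

theorem w_τw : algebraMap (DD A) (Sw A) w * τw A = 1 :=
  IsLocalization.Away.mul_invSelf (w : DD A)

/-- the values of `Θ` on the variables -/
noncomputable def Θfun (j : Fin 9) : Sw A :=
  if j = 8 then algebraMap (DD A) (Sw A) (pi8 A) * τw A
  else if j = 5 then algebraMap (DD A) (Sw A) (pf5 A) * τw A
  else if j = 2 then algebraMap (DD A) (Sw A) (pc2 A) * τw A ^ 2
  else algebraMap (DD A) (Sw A) (X j)

/-- the rational parametrisation -/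
noncomputable def Θ : DD A →ₐ[A] Sw A := MvPolynomial.aeval (Θfun A)

theorem Θ_X (j : Fin 9) (h2 : j ≠ 2) (h5 : j ≠ 5) (h8 : j ≠ 8) :
    Θ A (X j) = algebraMap (DD A) (Sw A) (X j) := by
  simp [Θ, Θfun, h2, h5, h8]

theorem Θ_i : Θ A i = algebraMap (DD A) (Sw A) (pi8 A) * τw A := by
  simp [Θ, Θfun]

theorem Θ_f : Θ A f = algebraMap (DD A) (Sw A) (pf5 A) * τw A := by
  simp [Θ, Θfun]

theorem Θ_c : Θ A c = algebraMap (DD A) (Sw A) (pc2 A) * τw A ^ 2 := by
  simp [Θ, Θfun]

theorem Θ_eq_of_mem_Sub6 {t : DD A} (ht : t ∈ Sub6 A) :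
    Θ A t = algebraMap (DD A) (Sw A) t := by
  have := AlgHom.adjoin_le_equalizer (Θ A) (IsScalarTower.toAlgHom A (DD A) (Sw A))
    (s := {p | ∃ j : Fin 9, j ≠ 2 ∧ j ≠ 5 ∧ j ≠ 8 ∧ p = X j}) (by
      rintro p ⟨j, h2, h5, h8, rfl⟩
      simpa using Θ_X A j h2 h5 h8)
  exact this ht

theorem Θ_q1 : Θ A (q1 A) = 0 := by
  simp only [q1, map_sub, map_add, map_mul, Θ_i,
    Θ_X A 7 (by decide) (by decide) (by decide), Θ_X A 0 (by decide) (by decide) (by decide),
    Θ_X A 6 (by decide) (by decide) (by decide), Θ_X A 1 (by decide) (by decide) (by decide),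
    Θ_X A 3 (by decide) (by decide) (by decide), pi8]
  linear_combination ((algebraMap (DD A) (Sw A) g) * (algebraMap (DD A) (Sw A) v) -
    (algebraMap (DD A) (Sw A) h) * (algebraMap (DD A) (Sw A) u)) * w_τw A

theorem Θ_q2 : Θ A (q2 A) = 0 := by
  simp only [q2, map_sub, map_add, map_mul, map_neg, Θ_f,
    Θ_X A 7 (by decide) (by decide) (by decide), Θ_X A 0 (by decide) (by decide) (by decide),
    Θ_X A 4 (by decide) (by decide) (by decide), Θ_X A 1 (by decide) (by decide) (by decide),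
    Θ_X A 3 (by decide) (by decide) (by decide), pf5]
  linear_combination (-((algebraMap (DD A) (Sw A) v) * (algebraMap (DD A) (Sw A) w) -
    (algebraMap (DD A) (Sw A) e) * (algebraMap (DD A) (Sw A) u) -
    (algebraMap (DD A) (Sw A) h) * (algebraMap (DD A) (Sw A) v))) * w_τw A

theorem Θ_q3 : Θ A (q3 A) = 0 := by
  have hpc : algebraMap (DD A) (Sw A) (pc2 A) =
      algebraMap (DD A) (Sw A) (pf5 A) * algebraMap (DD A) (Sw A) u +
        algebraMap (DD A) (Sw A) (pi8 A) * algebraMap (DD A) (Sw A) v := by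
    simp only [pc2, map_add, map_mul]
  simp only [q3, map_sub, map_add, map_mul, map_neg, Θ_f, Θ_i, Θ_c,
    Θ_X A 0 (by decide) (by decide) (by decide), Θ_X A 1 (by decide) (by decide) (by decide),
    Θ_X A 3 (by decide) (by decide) (by decide)]
  linear_combination ((algebraMap (DD A) (Sw A) (pc2 A)) * τw A) * w_τw A + τw A * hpc

theorem Θ_dM : Θ A (dM A) = 0 := by
  have h1 : Θ A (dM A * w) = 0 := by
    rw [dM_w]
    simp only [map_add, map_mul, Θ_q1, Θ_q2, Θ_q3, mul_zero, add_zero]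
  rw [map_mul, Θ_X A 3 (by decide) (by decide) (by decide)] at h1
  have h2 : Θ A (dM A) * (algebraMap (DD A) (Sw A) w * τw A) = 0 := by
    rw [← mul_assoc, h1, zero_mul]
  rwa [w_τw, mul_one] at h2

theorem idI'_le_ker : idI' A ≤ RingHom.ker (Θ A).toRingHom := by
  rw [idI', Ideal.span_le]
  intro x hx
  simp only [Set.mem_insert_iff, Set.mem_singleton_iff] at hx
  rcases hx with rfl | rfl | rfl
  · exact Θ_q1 A
  · exact Θ_q2 A
  · exact Θ_q3 A

theorem idJ'_le_ker : idJ' A ≤ RingHom.ker (Θ A).toRingHom := by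
  rw [idJ', Ideal.span_le]
  intro x hx
  simp only [Set.mem_insert_iff, Set.mem_singleton_iff] at hx
  rcases hx with rfl | rfl | rfl | rfl
  · exact Θ_q1 A
  · exact Θ_q2 A
  · exact Θ_q3 A
  · exact Θ_dM A

variable [Nontrivial A]

theorem w_mem_nonZeroDivisors : (w : DD A) ∈ nonZeroDivisors (DD A) := by
  refine mem_nonZeroDivisors_iff.mpr ⟨fun y hy => ?_, fun y hy => ?_⟩
  · rw [mul_comm] at hy; exact w_regular A hy
  · exact w_regular A hy

theorem ιw_injective : Function.Injective (algebraMap (DD A) (Sw A)) := by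
  apply IsLocalization.injective (Sw A) (M := Submonoid.powers (w : DD A))
  rw [Submonoid.powers_le]
  exact w_mem_nonZeroDivisors A

/-- `J` is the kernel of `Θ`. -/
theorem idJ'_eq_ker : idJ' A = RingHom.ker (Θ A).toRingHom := by
  apply le_antisymm (idJ'_le_ker A)
  intro y hy
  obtain ⟨n, t, ht, hnt⟩ := exists_elim6 A y
  have h1 : (Θ A) (w ^ n * y - t) = 0 := idI'_le_ker A hnt
  have hy' : Θ A y = 0 := hy
  rw [map_sub, map_mul, hy', mul_zero, zero_sub, neg_eq_zero, Θ_eq_of_mem_Sub6 A ht] at h1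
  have ht0 : t = 0 := ιw_injective A (by rw [h1, map_zero])
  rw [ht0, sub_zero] at hnt
  exact w_pow_regular_mod_J A n (idI'_le_idJ' A hnt)

end Groth.Agent.Helper19.Lie3.NC
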