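import Groth.Agent.Lib.Helper19.Lie3.MainB
import Groth.Agent.Lib.Helper19.Lie3.Elim
import Mathlib.RingTheory.Localization.Away.Basic
import Mathlib.Tactic.LinearCombination

/-! `w` is a non-zero-divisor modulo `J`. -/

set_option autoImplicit false

namespace Groth.Agent.Helper19.Lie3.NC

open MvPolynomial Finsupp

variable (A : Type*) [CommRing A]

/-- polynomials not involving `u`, `v` -/
noncomputable def Sub7 : Subalgebra A (DD A) :=
  Algebra.adjoin A {p | ∃ j : Fin 9, j ≠ 0 ∧ j ≠ 1 ∧ p = X j}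

theorem X_mem_Sub7 (j : Fin 9) (h0 : j ≠ 0) (h1 : j ≠ 1) : (X j : DD A) ∈ Sub7 A :=
  Algebra.subset_adjoin ⟨j, h0, h1, rfl⟩

theorem sg_mem_Sub7 : sg A ∈ Sub7 A := by
  have h5 := X_mem_Sub7 A 5 (by decide) (by decide)
  have h6 := X_mem_Sub7 A 6 (by decide) (by decide)
  have h7 := X_mem_Sub7 A 7 (by decide) (by decide)
  have h8 := X_mem_Sub7 A 8 (by decide) (by decide)
  exact (Sub7 A).add_mem ((Sub7 A).mul_mem h7 h8) ((Sub7 A).mul_mem h6 h5)

theorem w_mem_Sub7 : (w : DD A) ∈ Sub7 A := X_mem_Sub7 A 3 (by decide) (by decide)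

/-- `Δ w` -/
noncomputable def pu : DD A := (g * c - i ^ 2) * w
/-- `γ w` -/
noncomputable def pv : DD A := (h * c + f * i) * w

theorem pu_mem_Sub7 : pu A ∈ Sub7 A := by
  have h2 := X_mem_Sub7 A 2 (by decide) (by decide)
  have h3 := X_mem_Sub7 A 3 (by decide) (by decide)
  have h6 := X_mem_Sub7 A 6 (by decide) (by decide)
  have h8 := X_mem_Sub7 A 8 (by decide) (by decide)
  exact (Sub7 A).mul_mem ((Sub7 A).sub_mem ((Sub7 A).mul_mem h6 h2) ((Sub7 A).pow_mem h8 2)) h3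

theorem pv_mem_Sub7 : pv A ∈ Sub7 A := by
  have h2 := X_mem_Sub7 A 2 (by decide) (by decide)
  have h3 := X_mem_Sub7 A 3 (by decide) (by decide)
  have h5 := X_mem_Sub7 A 5 (by decide) (by decide)
  have h7 := X_mem_Sub7 A 7 (by decide) (by decide)
  have h8 := X_mem_Sub7 A 8 (by decide) (by decide)
  exact (Sub7 A).mul_mem ((Sub7 A).add_mem ((Sub7 A).mul_mem h7 h2) ((Sub7 A).mul_mem h5 h8)) h3

theorem sg_u : sg A * u - pu A = i * q1 A + (-g) * q3 A := by
  simp only [sg, pu, q1, q3]; ring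

theorem sg_v : sg A * v - pv A = (-f) * q1 A + (-h) * q3 A := by
  simp only [sg, pv, q1, q3]; ring

theorem dM_sub_dM7 : dM A - dM7 A = sg A * v - pv A := by
  simp only [dM, dM7, sg, pv]; ring

theorem dM7_mem_J : dM7 A ∈ idJ' A := by
  have : dM7 A = dM A - (sg A * v - pv A) := by rw [← dM_sub_dM7]; ring
  rw [this, sg_v]
  refine sub_mem (dM_mem_J A) (idI'_le_idJ' A ?_)
  exact add_mem (Ideal.mul_mem_left _ _ (q1_mem_I A)) (Ideal.mul_mem_left _ _ (q3_mem_I A))

/-- elimination of `u`, `v` after multiplying by a power of `sg` -/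
theorem exists_elim7 (y : DD A) : ∃ n : ℕ, ∃ t ∈ Sub7 A, sg A ^ n * y - t ∈ idI' A := by
  refine exists_elim (Sub7 A) (sg A) (sg_mem_Sub7 A) (idI' A) ?_ y
  intro j
  by_cases h0 : j = 0
  · subst h0
    refine ⟨1, pu A, pu_mem_Sub7 A, ?_⟩
    rw [pow_one, sg_u]
    exact add_mem (Ideal.mul_mem_left _ _ (q1_mem_I A)) (Ideal.mul_mem_left _ _ (q3_mem_I A))
  by_cases h1 : j = 1
  · subst h1
    refine ⟨1, pv A, pv_mem_Sub7 A, ?_⟩
    rw [pow_one, sg_v]
    exact add_mem (Ideal.mul_mem_left _ _ (q1_mem_I A)) (Ideal.mul_mem_left _ _ (q3_mem_I A))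
  exact ⟨0, X j, X_mem_Sub7 A j h0 h1, by simp⟩

/-- the localization away from `sg` -/
abbrev Sσ : Type _ := Localization.Away (sg A)

/-- the inverse of `sg` -/
noncomputable def τσ : Sσ A := IsLocalization.Away.invSelf (sg A)

theorem sg_τσ : algebraMap (DD A) (Sσ A) (sg A) * τσ A = 1 :=
  IsLocalization.Away.mul_invSelf (sg A)

/-- the values of `ψ` on the variables -/
noncomputable def ψfun (j : Fin 9) : Sσ A :=
  if j = 0 then algebraMap (DD A) (Sσ A) (pu A) * τσ A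
  else if j = 1 then algebraMap (DD A) (Sσ A) (pv A) * τσ A
  else algebraMap (DD A) (Sσ A) (X j)

/-- the substitution `u ↦ Δ w / sg`, `v ↦ γ w / sg` -/
noncomputable def ψ : DD A →ₐ[A] Sσ A := MvPolynomial.aeval (ψfun A)

theorem ψ_X (j : Fin 9) (h0 : j ≠ 0) (h1 : j ≠ 1) :
    ψ A (X j) = algebraMap (DD A) (Sσ A) (X j) := by
  simp [ψ, ψfun, h0, h1]

theorem ψ_u : ψ A u = algebraMap (DD A) (Sσ A) (pu A) * τσ A := by
  simp [ψ, ψfun]

theorem ψ_v : ψ A v = algebraMap (DD A) (Sσ A) (pv A) * τσ A := by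
  simp [ψ, ψfun]

theorem ψ_eq_of_mem_Sub7 {t : DD A} (ht : t ∈ Sub7 A) :
    ψ A t = algebraMap (DD A) (Sσ A) t := by
  have := AlgHom.adjoin_le_equalizer (ψ A) (IsScalarTower.toAlgHom A (DD A) (Sσ A))
    (s := {p | ∃ j : Fin 9, j ≠ 0 ∧ j ≠ 1 ∧ p = X j}) (by
      rintro p ⟨j, h0, h1, rfl⟩
      simpa using ψ_X A j h0 h1)
  exact this ht

theorem sg_τσ' : ((algebraMap (DD A) (Sσ A) h) * (algebraMap (DD A) (Sσ A) i) +
    (algebraMap (DD A) (Sσ A) g) * (algebraMap (DD A) (Sσ A) f)) * τσ A = 1 := by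
  have := sg_τσ A
  simpa only [sg, map_add, map_mul] using this

theorem ψ_q1 : ψ A (q1 A) = 0 := by
  simp only [q1, map_sub, map_add, map_mul, ψ_u, ψ_v, ψ_X A 7 (by decide) (by decide),
    ψ_X A 6 (by decide) (by decide), ψ_X A 8 (by decide) (by decide),
    ψ_X A 3 (by decide) (by decide), pu, pv, map_pow]
  linear_combination (-((algebraMap (DD A) (Sσ A) i) * (algebraMap (DD A) (Sσ A) w))) * sg_τσ' A

theorem ψ_q3 : ψ A (q3 A) = 0 := by
  simp only [q3, map_sub, map_add, map_mul, map_neg, ψ_u, ψ_v, ψ_X A 5 (by decide) (by decide),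
    ψ_X A 2 (by decide) (by decide), ψ_X A 8 (by decide) (by decide),
    ψ_X A 3 (by decide) (by decide), pu, pv, map_pow]
  linear_combination (-((algebraMap (DD A) (Sσ A) c) * (algebraMap (DD A) (Sσ A) w))) * sg_τσ' A

theorem ψ_q2 : ψ A (q2 A) =
    algebraMap (DD A) (Sσ A) w * τσ A * algebraMap (DD A) (Sσ A) (dM7 A) := by
  simp only [q2, dM7, map_sub, map_add, map_mul, map_neg, ψ_u, ψ_v,
    ψ_X A 4 (by decide) (by decide), ψ_X A 7 (by decide) (by decide),
    ψ_X A 5 (by decide) (by decide), ψ_X A 3 (by decide) (by decide), pu, pv, map_pow, map_ofNat]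
  linear_combination ((algebraMap (DD A) (Sσ A) f) * (algebraMap (DD A) (Sσ A) w)) * sg_τσ' A

theorem ψ_dM : ψ A (dM A) = algebraMap (DD A) (Sσ A) (dM7 A) := by
  simp only [dM, dM7, map_sub, map_add, map_mul, map_neg, ψ_u, ψ_v,
    ψ_X A 2 (by decide) (by decide), ψ_X A 4 (by decide) (by decide),
    ψ_X A 5 (by decide) (by decide), ψ_X A 6 (by decide) (by decide),
    ψ_X A 7 (by decide) (by decide), ψ_X A 8 (by decide) (by decide),
    ψ_X A 3 (by decide) (by decide), pu, pv, map_pow, map_ofNat]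
  linear_combination (((algebraMap (DD A) (Sσ A) h) * (algebraMap (DD A) (Sσ A) c) +
    (algebraMap (DD A) (Sσ A) f) * (algebraMap (DD A) (Sσ A) i)) *
      (algebraMap (DD A) (Sσ A) w)) * sg_τσ' A


variable [Nontrivial A]

theorem sg_mem_nonZeroDivisors : sg A ∈ nonZeroDivisors (DD A) := by
  refine mem_nonZeroDivisors_iff.mpr ⟨fun y hy => ?_, fun y hy => ?_⟩
  · rw [mul_comm] at hy; exact sg_regular A hy
  · exact sg_regular A hy

theorem ισ_injective : Function.Injective (algebraMap (DD A) (Sσ A)) := by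
  apply IsLocalization.injective (Sσ A) (M := Submonoid.powers (sg A))
  rw [Submonoid.powers_le]
  exact sg_mem_nonZeroDivisors A

/-- elements of `J` not involving `u`, `v` are multiples of `dM7` up to a power of `sg` -/
theorem KC {t : DD A} (ht : t ∈ Sub7 A) (htJ : t ∈ idJ' A) :
    ∃ k : ℕ, ∃ p : DD A, t * sg A ^ k = p * dM7 A := by
  rw [idJ', Ideal.mem_span_insert] at htJ
  obtain ⟨a1, z1, hz1, rfl⟩ := htJ
  rw [Ideal.mem_span_insert] at hz1
  obtain ⟨a2, z2, hz2, rfl⟩ := hz1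
  rw [Ideal.mem_span_insert] at hz2
  obtain ⟨a3, z3, hz3, rfl⟩ := hz2
  obtain ⟨a4, rfl⟩ := Ideal.mem_span_singleton'.mp hz3
  have h1 := ψ_eq_of_mem_Sub7 A ht
  have h2 : ψ A (a1 * q1 A + (a2 * q2 A + (a3 * q3 A + a4 * dM A))) =
      (ψ A a2 * algebraMap (DD A) (Sσ A) w * τσ A + ψ A a4) * algebraMap (DD A) (Sσ A) (dM7 A) := by
    simp only [map_add, map_mul, ψ_q1, ψ_q2, ψ_q3, ψ_dM, mul_zero, zero_add, add_zero]
    ring
  rw [h2] at h1
  obtain ⟨⟨p, s⟩, hs⟩ := IsLocalization.surj (Submonoid.powers (sg A))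
    (ψ A a2 * algebraMap (DD A) (Sσ A) w * τσ A + ψ A a4)
  obtain ⟨k, hk⟩ := s.2
  have hk' : sg A ^ k = ↑s := hk
  refine ⟨k, p, ?_⟩
  apply ισ_injective A
  simp only at hs
  rw [map_mul (algebraMap (DD A) (Sσ A)) _ (sg A ^ k), ← h1, hk',
    map_mul (algebraMap (DD A) (Sσ A)) p, ← hs]
  ring

/-- `w` is a non-zero-divisor modulo `J`. -/
theorem w_regular_mod_J {y : DD A} (hy : w * y ∈ idJ' A) : y ∈ idJ' A := by
  obtain ⟨n, t, ht, hnt⟩ := exists_elim7 A y
  have hwt : w * t ∈ idJ' A := by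
    have : w * t = sg A ^ n * (w * y) - w * (sg A ^ n * y - t) := by ring
    rw [this]
    exact sub_mem (Ideal.mul_mem_left _ _ hy)
      (Ideal.mul_mem_left _ _ (idI'_le_idJ' A hnt))
  obtain ⟨k, p, hkp⟩ := KC A ((Sub7 A).mul_mem (w_mem_Sub7 A) ht) hwt
  have h1 : ∀ k : ℕ, ∀ z : DD A, z * sg A ^ k ∈ Ideal.span ({dM7 A} : Set (DD A)) →
      z ∈ Ideal.span ({dM7 A} : Set (DD A)) := by
    intro k
    induction k with
    | zero => intro z hz; simpa using hz
    | succ k ih =>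
      intro z hz
      apply ih
      apply sg_regular_mod_dM7 A
      have : z * sg A ^ k * sg A = z * sg A ^ (k + 1) := by ring
      rw [this]; exact hz
  have h2 : t * w ∈ Ideal.span ({dM7 A} : Set (DD A)) := by
    apply h1 k
    have : t * w * sg A ^ k = w * t * sg A ^ k := by ring
    rw [this, hkp]
    exact Ideal.mul_mem_left _ _ (Ideal.subset_span rfl)
  have h3 : t ∈ Ideal.span ({dM7 A} : Set (DD A)) := w_regular_mod_dM7 A h2
  have h4 : t ∈ idJ' A := by
    obtain ⟨r, rfl⟩ := Ideal.mem_span_singleton'.mp h3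
    exact Ideal.mul_mem_left _ _ (dM7_mem_J A)
  apply sg_pow_regular_mod_J A n
  have : sg A ^ n * y = (sg A ^ n * y - t) + t := by ring
  rw [this]
  exact add_mem (idI'_le_idJ' A hnt) h4

theorem w_pow_regular_mod_J (n : ℕ) {y : DD A} (hy : w ^ n * y ∈ idJ' A) : y ∈ idJ' A := by
  induction n with
  | zero => simpa using hy
  | succ n ih =>
    apply ih
    apply w_regular_mod_J A
    have : w * (w ^ n * y) = w ^ (n + 1) * y := by ring
    rw [this]; exact hy

end Groth.Agent.Helper19.Lie3.NC
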