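import Groth.Agent.Lib.Helper19.Lie3.LT
import Mathlib.Tactic.Ring
import Mathlib.Tactic.FinCases

/-! The Jacobi polynomials of three-dimensional Lie algebras in adapted coordinates, and their
leading terms for a weighted monomial order. -/

set_option autoImplicit false

namespace Groth.Agent.Helper19.Lie3.NC

open MvPolynomial Finsupp
open scoped MonomialOrder

variable (A : Type*) [CommRing A]

/-- the polynomial ring, in the new coordinates
`u = X 0, v = X 1, c = X 2, w = X 3, e = X 4, f = X 5, g = X 6, h = X 7, i = X 8` -/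
abbrev DD : Type _ := MvPolynomial (Fin 9) A

section vars
variable {A}
noncomputable abbrev u : DD A := X 0
noncomputable abbrev v : DD A := X 1
noncomputable abbrev c : DD A := X 2
noncomputable abbrev w : DD A := X 3
noncomputable abbrev e : DD A := X 4
noncomputable abbrev f : DD A := X 5
noncomputable abbrev g : DD A := X 6
noncomputable abbrev h : DD A := X 7
noncomputable abbrev i : DD A := X 8
end vars

noncomputable def q1 : DD A := h * u - g * v + i * w
noncomputable def q2 : DD A := -(e * u) - h * v - f * w + v * w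
noncomputable def q3 : DD A := -(f * u) - i * v + c * w
noncomputable def dM : DD A :=
  -(c * h ^ 2) - g * f ^ 2 - 2 * (h * f * i) + g * v * f + h * v * i + e * i ^ 2 - g * e * c
noncomputable def sg : DD A := h * i + g * f
noncomputable def dM7 : DD A :=
  (h * c + f * i) * w - (g * c - i ^ 2) * e - (c * h ^ 2 + g * f ^ 2 + 2 * (i * h * f))

/-- the weights -/
def ω : Fin 9 → ℕ := ![0, 0, 3, 0, 3, 0, 3, 2, 2]

/-- the weighted monomial order -/
noncomputable abbrev mo : MonomialOrder (Fin 9) := wOrd ω

theorem q1_form : q1 A = monomial (single 6 1 + single 1 1) (-1) +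
    (monomial (single 7 1 + single 0 1) 1 + monomial (single 8 1 + single 3 1) 1) := by
  simp only [q1, monomial_single_add, pow_one, ← C_mul_X_eq_monomial, map_neg, map_one]
  ring

theorem q2_form : q2 A = monomial (single 4 1 + single 0 1) (-1) +
    (monomial (single 7 1 + single 1 1) (-1) + (monomial (single 5 1 + single 3 1) (-1) +
      monomial (single 1 1 + single 3 1) 1)) := by
  simp only [q2, monomial_single_add, pow_one, ← C_mul_X_eq_monomial, map_neg, map_one]
  ring

theorem q3_form : q3 A = monomial (single 2 1 + single 3 1) 1 +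
    (monomial (single 5 1 + single 0 1) (-1) + monomial (single 8 1 + single 1 1) (-1)) := by
  simp only [q3, monomial_single_add, pow_one, ← C_mul_X_eq_monomial, map_neg, map_one]
  ring

theorem sg_form : sg A = monomial (single 7 1 + single 8 1) 1 +
    monomial (single 6 1 + single 5 1) 1 := by
  simp only [sg, monomial_single_add, pow_one, ← C_mul_X_eq_monomial, map_neg, map_one]
  ring

theorem dM_form : dM A = monomial (single 6 1 + (single 4 1 + single 2 1)) (-1) +
    (monomial (single 2 1 + single 7 2) (-1) + (monomial (single 6 1 + single 5 2) (-1) +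
    (monomial (single 7 1 + (single 5 1 + single 8 1)) (-2) +
    (monomial (single 6 1 + (single 1 1 + single 5 1)) 1 +
    (monomial (single 7 1 + (single 1 1 + single 8 1)) 1 +
      monomial (single 4 1 + single 8 2) 1))))) := by
  simp only [dM, monomial_single_add, pow_one, ← C_mul_X_pow_eq_monomial, map_neg, map_one,
    map_ofNat]
  ring

theorem dM7_form : dM7 A = monomial (single 6 1 + (single 2 1 + single 4 1)) (-1) +
    (monomial (single 7 1 + (single 2 1 + single 3 1)) 1 +
    (monomial (single 5 1 + (single 8 1 + single 3 1)) 1 +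
    (monomial (single 8 2 + single 4 1) 1 + (monomial (single 2 1 + single 7 2) (-1) +
    (monomial (single 6 1 + single 5 2) (-1) +
      monomial (single 8 1 + (single 7 1 + single 5 1)) (-2)))))) := by
  simp only [dM7, monomial_single_add, pow_one, ← C_mul_X_pow_eq_monomial, map_neg, map_one,
    map_ofNat]
  ring

variable [Nontrivial A]

theorem q1_top : (mo).degree (q1 A) = single 6 1 + single 1 1 ∧ (mo).leadingCoeff (q1 A) = -1 := by
  refine degree_of_top ω (q1_form A) (by simp) ?_
  refine WLt.add ω (wLt_monomial ω _ ?_) (wLt_monomial ω _ ?_) <;>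
    simp [Finsupp.weight_single, ω]

theorem q2_top : (mo).degree (q2 A) = single 4 1 + single 0 1 ∧ (mo).leadingCoeff (q2 A) = -1 := by
  refine degree_of_top ω (q2_form A) (by simp) ?_
  refine WLt.add ω (wLt_monomial ω _ ?_) (WLt.add ω (wLt_monomial ω _ ?_) (wLt_monomial ω _ ?_)) <;>
    simp [Finsupp.weight_single, ω]

theorem q3_top : (mo).degree (q3 A) = single 2 1 + single 3 1 ∧ (mo).leadingCoeff (q3 A) = 1 := by
  refine degree_of_top ω (q3_form A) (by simp) ?_
  refine WLt.add ω (wLt_monomial ω _ ?_) (wLt_monomial ω _ ?_) <;>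
    simp [Finsupp.weight_single, ω]

theorem sg_top : (mo).degree (sg A) = single 7 1 + single 8 1 ∧ (mo).leadingCoeff (sg A) = 1 := by
  refine degree_of_top ω (sg_form A) (by simp) ?_
  refine wLt_monomial ω _ ?_
  simp [Finsupp.weight_single, ω]

theorem dM_top : (mo).degree (dM A) = single 6 1 + (single 4 1 + single 2 1) ∧
    (mo).leadingCoeff (dM A) = -1 := by
  refine degree_of_top ω (dM_form A) (by simp) ?_
  refine WLt.add ω (wLt_monomial ω _ ?_) (WLt.add ω (wLt_monomial ω _ ?_)
    (WLt.add ω (wLt_monomial ω _ ?_) (WLt.add ω (wLt_monomial ω _ ?_)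
    (WLt.add ω (wLt_monomial ω _ ?_) (wLt_monomial ω _ ?_))))) <;>
    simp [Finsupp.weight_single, ω]

theorem dM7_top : (mo).degree (dM7 A) = single 6 1 + (single 2 1 + single 4 1) ∧
    (mo).leadingCoeff (dM7 A) = -1 := by
  refine degree_of_top ω (dM7_form A) (by simp) ?_
  refine WLt.add ω (wLt_monomial ω _ ?_) (WLt.add ω (wLt_monomial ω _ ?_)
    (WLt.add ω (wLt_monomial ω _ ?_) (WLt.add ω (wLt_monomial ω _ ?_)
    (WLt.add ω (wLt_monomial ω _ ?_) (wLt_monomial ω _ ?_))))) <;>
    simp [Finsupp.weight_single, ω]

theorem X_top (j : Fin 9) : (mo).degree (X j : DD A) = single j 1 ∧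
    (mo).leadingCoeff (X j : DD A) = 1 :=
  ⟨MonomialOrder.degree_X, MonomialOrder.leadingCoeff_X⟩

theorem disj {a b : Fin 9 →₀ ℕ} (hab : ∀ j, a j = 0 ∨ b j = 0) :
    Disjoint a.support b.support := by
  rw [Finset.disjoint_left]
  intro j ha hb
  rw [Finsupp.mem_support_iff] at ha hb
  rcases hab j with h | h
  · exact ha h
  · exact hb h

end Groth.Agent.Helper19.Lie3.NC
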