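import Groth.Agent.Lib.Helper19.Lie3.NC

/-! Regularity statements obtained from the coprime-leading-terms criterion. -/

set_option autoImplicit false

namespace Groth.Agent.Helper19.Lie3.NC

open MvPolynomial Finsupp
open scoped MonomialOrder

variable (A : Type*) [CommRing A] [Nontrivial A]

theorem unit_q1 : IsUnit ((mo).leadingCoeff (q1 A)) := by
  rw [(q1_top A).2]; exact isUnit_one.neg
theorem unit_q2 : IsUnit ((mo).leadingCoeff (q2 A)) := by
  rw [(q2_top A).2]; exact isUnit_one.neg
theorem unit_q3 : IsUnit ((mo).leadingCoeff (q3 A)) := by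
  rw [(q3_top A).2]; exact isUnit_one
theorem unit_sg : IsUnit ((mo).leadingCoeff (sg A)) := by
  rw [(sg_top A).2]; exact isUnit_one
theorem unit_dM : IsUnit ((mo).leadingCoeff (dM A)) := by
  rw [(dM_top A).2]; exact isUnit_one.neg
theorem unit_dM7 : IsUnit ((mo).leadingCoeff (dM7 A)) := by
  rw [(dM7_top A).2]; exact isUnit_one.neg
theorem unit_X (j : Fin 9) : IsUnit ((mo).leadingCoeff (X j : DD A)) := by
  rw [(X_top A j).2]; exact isUnit_one

theorem isGB_q3 : IsGB mo ({q3 A} : Set (DD A)) := by
  have := (isGB_empty (R := A) mo).insert mo (by simp) (unit_q3 A) (by simp)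
  simpa using this

theorem isGB_q23 : IsGB mo ({q2 A, q3 A} : Set (DD A)) := by
  refine (isGB_q3 A).insert mo ?_ (unit_q2 A) ?_
  · intro g hg; rw [Set.mem_singleton_iff] at hg; subst hg; exact unit_q3 A
  · intro g hg; rw [Set.mem_singleton_iff] at hg; subst hg
    rw [(q3_top A).1, (q2_top A).1]
    exact disj fun j => by fin_cases j <;> simp

theorem isGB_q123 : IsGB mo ({q1 A, q2 A, q3 A} : Set (DD A)) := by
  refine (isGB_q23 A).insert mo ?_ (unit_q1 A) ?_
  · intro g hg
    simp only [Set.mem_insert_iff, Set.mem_singleton_iff] at hg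
    rcases hg with rfl | rfl
    · exact unit_q2 A
    · exact unit_q3 A
  · intro g hg
    simp only [Set.mem_insert_iff, Set.mem_singleton_iff] at hg
    rcases hg with rfl | rfl
    · rw [(q2_top A).1, (q1_top A).1]
      exact disj fun j => by fin_cases j <;> simp
    · rw [(q3_top A).1, (q1_top A).1]
      exact disj fun j => by fin_cases j <;> simp

/-- (a): `sg` is a non-zero-divisor modulo `(q1, q2, q3)`. -/
theorem sg_regular_mod_I {x : DD A} (hx : x * sg A ∈ Ideal.span ({q1 A, q2 A, q3 A} : Set (DD A))) :
    x ∈ Ideal.span ({q1 A, q2 A, q3 A} : Set (DD A)) := by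
  refine (isGB_q123 A).regular mo ?_ (unit_sg A) ?_ hx
  · intro g hg
    simp only [Set.mem_insert_iff, Set.mem_singleton_iff] at hg
    rcases hg with rfl | rfl | rfl
    · exact unit_q1 A
    · exact unit_q2 A
    · exact unit_q3 A
  · intro g hg
    simp only [Set.mem_insert_iff, Set.mem_singleton_iff] at hg
    rcases hg with rfl | rfl | rfl
    · rw [(q1_top A).1, (sg_top A).1]
      exact disj fun j => by fin_cases j <;> simp
    · rw [(q2_top A).1, (sg_top A).1]
      exact disj fun j => by fin_cases j <;> simp
    · rw [(q3_top A).1, (sg_top A).1]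
      exact disj fun j => by fin_cases j <;> simp

theorem isGB_w : IsGB mo ({w} : Set (DD A)) := by
  have := (isGB_empty (R := A) mo).insert mo (by simp) (unit_X A 3) (by simp)
  simpa using this

theorem isGB_vw : IsGB mo ({v, w} : Set (DD A)) := by
  refine (isGB_w A).insert mo ?_ (unit_X A 1) ?_
  · intro g hg; rw [Set.mem_singleton_iff] at hg; subst hg; exact unit_X A 3
  · intro g hg; rw [Set.mem_singleton_iff] at hg; subst hg
    rw [(X_top A 3).1, (X_top A 1).1]
    exact disj fun j => by fin_cases j <;> simp

theorem isGB_uvw : IsGB mo ({u, v, w} : Set (DD A)) := by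
  refine (isGB_vw A).insert mo ?_ (unit_X A 0) ?_
  · intro g hg
    simp only [Set.mem_insert_iff, Set.mem_singleton_iff] at hg
    rcases hg with rfl | rfl
    · exact unit_X A 1
    · exact unit_X A 3
  · intro g hg
    simp only [Set.mem_insert_iff, Set.mem_singleton_iff] at hg
    rcases hg with rfl | rfl
    · rw [(X_top A 1).1, (X_top A 0).1]
      exact disj fun j => by fin_cases j <;> simp
    · rw [(X_top A 3).1, (X_top A 0).1]
      exact disj fun j => by fin_cases j <;> simp

theorem isGB_suvw : IsGB mo ({sg A, u, v, w} : Set (DD A)) := by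
  refine (isGB_uvw A).insert mo ?_ (unit_sg A) ?_
  · intro g hg
    simp only [Set.mem_insert_iff, Set.mem_singleton_iff] at hg
    rcases hg with rfl | rfl | rfl
    · exact unit_X A 0
    · exact unit_X A 1
    · exact unit_X A 3
  · intro g hg
    simp only [Set.mem_insert_iff, Set.mem_singleton_iff] at hg
    rcases hg with rfl | rfl | rfl
    · rw [(X_top A 0).1, (sg_top A).1]
      exact disj fun j => by fin_cases j <;> simp
    · rw [(X_top A 1).1, (sg_top A).1]
      exact disj fun j => by fin_cases j <;> simp
    · rw [(X_top A 3).1, (sg_top A).1]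
      exact disj fun j => by fin_cases j <;> simp

/-- (b): `dM` is a non-zero-divisor modulo `(sg, u, v, w)`. -/
theorem dM_regular_mod {x : DD A}
    (hx : x * dM A ∈ Ideal.span ({sg A, u, v, w} : Set (DD A))) :
    x ∈ Ideal.span ({sg A, u, v, w} : Set (DD A)) := by
  refine (isGB_suvw A).regular mo ?_ (unit_dM A) ?_ hx
  · intro g hg
    simp only [Set.mem_insert_iff, Set.mem_singleton_iff] at hg
    rcases hg with rfl | rfl | rfl | rfl
    · exact unit_sg A
    · exact unit_X A 0
    · exact unit_X A 1
    · exact unit_X A 3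
  · intro g hg
    simp only [Set.mem_insert_iff, Set.mem_singleton_iff] at hg
    rcases hg with rfl | rfl | rfl | rfl
    · rw [(sg_top A).1, (dM_top A).1]
      exact disj fun j => by fin_cases j <;> simp
    · rw [(X_top A 0).1, (dM_top A).1]
      exact disj fun j => by fin_cases j <;> simp
    · rw [(X_top A 1).1, (dM_top A).1]
      exact disj fun j => by fin_cases j <;> simp
    · rw [(X_top A 3).1, (dM_top A).1]
      exact disj fun j => by fin_cases j <;> simp

theorem isGB_dM7 : IsGB mo ({dM7 A} : Set (DD A)) := by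
  have := (isGB_empty (R := A) mo).insert mo (by simp) (unit_dM7 A) (by simp)
  simpa using this

/-- (c1): `sg` is a non-zero-divisor modulo `dM7`. -/
theorem sg_regular_mod_dM7 {x : DD A} (hx : x * sg A ∈ Ideal.span ({dM7 A} : Set (DD A))) :
    x ∈ Ideal.span ({dM7 A} : Set (DD A)) := by
  refine (isGB_dM7 A).regular mo ?_ (unit_sg A) ?_ hx
  · intro g hg; rw [Set.mem_singleton_iff] at hg; subst hg; exact unit_dM7 A
  · intro g hg; rw [Set.mem_singleton_iff] at hg; subst hg
    rw [(dM7_top A).1, (sg_top A).1]
    exact disj fun j => by fin_cases j <;> simp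

/-- (c2): `w` is a non-zero-divisor modulo `dM7`. -/
theorem w_regular_mod_dM7 {x : DD A} (hx : x * w ∈ Ideal.span ({dM7 A} : Set (DD A))) :
    x ∈ Ideal.span ({dM7 A} : Set (DD A)) := by
  refine (isGB_dM7 A).regular mo ?_ (unit_X A 3) ?_ hx
  · intro g hg; rw [Set.mem_singleton_iff] at hg; subst hg; exact unit_dM7 A
  · intro g hg; rw [Set.mem_singleton_iff] at hg; subst hg
    rw [(dM7_top A).1, (X_top A 3).1]
    exact disj fun j => by fin_cases j <;> simp

/-- `sg` is a non-zero-divisor of the polynomial ring. -/
theorem sg_regular {x : DD A} (hx : x * sg A = 0) : x = 0 := by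
  have h := (isGB_empty (R := A) mo).regular mo (by simp) (unit_sg A) (by simp)
    (x := x) (by rw [hx]; exact zero_mem _)
  simpa using h

/-- `w` is a non-zero-divisor of the polynomial ring. -/
theorem w_regular {x : DD A} (hx : x * w = 0) : x = 0 := by
  have h := (isGB_empty (R := A) mo).regular mo (by simp) (unit_X A 3) (by simp)
    (x := x) (by rw [hx]; exact zero_mem _)
  simpa using h

end Groth.Agent.Helper19.Lie3.NC
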