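import Groth.Agent.Lib.Helper19.Lie3.Final
import Mathlib.RingTheory.Regular.RegularSequence

/-! Regular sequences `L1, L2, L3` and `Q1, Q2, Q3`. -/

set_option autoImplicit false

namespace Groth.Agent.Helper19.Lie3.NC

open MvPolynomial Finsupp

theorem isRegular_of3 {R : Type*} [CommRing R] (r1 r2 r3 : R)
    (h1 : ∀ x, r1 * x = 0 → x = 0)
    (h2 : ∀ x, r2 * x ∈ Ideal.span ({r1} : Set R) → x ∈ Ideal.span ({r1} : Set R))
    (h3 : ∀ x, r3 * x ∈ Ideal.span ({r1, r2} : Set R) → x ∈ Ideal.span ({r1, r2} : Set R))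
    (hne : Ideal.span ({r1, r2, r3} : Set R) ≠ ⊤) :
    RingTheory.Sequence.IsRegular R [r1, r2, r3] := by
  refine ⟨⟨fun i hi => ?_⟩, ?_⟩
  · rw [isSMulRegular_quotient_iff_mem_of_smul_mem]
    simp only [List.length_cons, List.length_nil] at hi
    have e0 : (Ideal.ofList ([] : List R) • ⊤ : Submodule R R) = ⊥ := by simp
    have e1 : (Ideal.ofList [r1] • ⊤ : Submodule R R) = Ideal.span {r1} := by
      rw [Ideal.ofList_singleton, smul_eq_mul, Ideal.mul_top]
    have e2 : (Ideal.ofList [r1, r2] • ⊤ : Submodule R R) = Ideal.span {r1, r2} := by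
      rw [smul_eq_mul, Ideal.mul_top]
      show Ideal.span {r | r ∈ [r1, r2]} = Ideal.span {r1, r2}
      congr 1
      ext x; simp
    interval_cases i
    · simp only [List.take_zero, List.getElem_cons_zero]
      rw [e0]
      intro x hx
      rw [Submodule.mem_bot] at hx ⊢
      exact h1 x hx
    · simp only [List.take_succ_cons, List.take_zero, List.getElem_cons_succ,
        List.getElem_cons_zero]
      rw [e1]
      exact h2
    · simp only [List.take_succ_cons, List.take_zero, List.getElem_cons_succ,
        List.getElem_cons_zero]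
      rw [e2]
      exact h3
  · rw [smul_eq_mul, Ideal.mul_top]
    intro h
    apply hne
    rw [h]
    show Ideal.span {r1, r2, r3} = Ideal.span {r | r ∈ [r1, r2, r3]}
    congr 1
    ext x; simp


variable (A : Type*) [CommRing A]

theorem mem_span_iff_α (S : Set (DD A)) {x : DD A} :
    x ∈ Ideal.span S ↔ α A x ∈ Ideal.span (α A '' S) := by
  rw [← Ideal.map_span]
  constructor
  · intro hx; exact Ideal.mem_map_of_mem _ hx
  · intro hx
    have h1 : Ideal.map (αE A : DD A →+* DD A) (Ideal.span S) = Ideal.map (α A) (Ideal.span S) :=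
      rfl
    rw [← h1] at hx
    obtain ⟨y, hy, hyx⟩ :=
      (Ideal.mem_map_of_equiv (αE A).toRingEquiv (I := Ideal.span S) (α A x)).mp hx
    have : y = x := (αE A).injective hyx
    rwa [← this]

theorem α_injective : Function.Injective (α A) := (αE A).injective

variable [Nontrivial A]

theorem X_regular (j : Fin 9) {x : DD A} (hx : x * X j = 0) : x = 0 := by
  have h := (isGB_empty (R := A) mo).regular mo (by simp) (unit_X A j) (by simp)
    (x := x) (by rw [hx]; exact zero_mem _)
  simpa using h

theorem q1_regular {x : DD A} (hx : x * q1 A = 0) : x = 0 := by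
  have h := (isGB_empty (R := A) mo).regular mo (by simp) (unit_q1 A) (by simp)
    (x := x) (by rw [hx]; exact zero_mem _)
  simpa using h

theorem isGB_u : IsGB mo ({u} : Set (DD A)) := by
  have := (isGB_empty (R := A) mo).insert mo (by simp) (unit_X A 0) (by simp)
  simpa using this

theorem isGB_v : IsGB mo ({v} : Set (DD A)) := by
  have := (isGB_empty (R := A) mo).insert mo (by simp) (unit_X A 1) (by simp)
  simpa using this

theorem isGB_uv : IsGB mo ({u, v} : Set (DD A)) := by
  refine (isGB_v A).insert mo ?_ (unit_X A 0) ?_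
  · intro g hg; rw [Set.mem_singleton_iff] at hg; subst hg; exact unit_X A 1
  · intro g hg; rw [Set.mem_singleton_iff] at hg; subst hg
    rw [(X_top A 1).1, (X_top A 0).1]
    exact disj fun j => by fin_cases j <;> simp

theorem v_regular_mod_u {x : DD A} (hx : x * v ∈ Ideal.span ({u} : Set (DD A))) :
    x ∈ Ideal.span ({u} : Set (DD A)) := by
  refine (isGB_u A).regular mo ?_ (unit_X A 1) ?_ hx
  · intro g hg; rw [Set.mem_singleton_iff] at hg; subst hg; exact unit_X A 0
  · intro g hg; rw [Set.mem_singleton_iff] at hg; subst hg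
    rw [(X_top A 0).1, (X_top A 1).1]
    exact disj fun j => by fin_cases j <;> simp

theorem w_regular_mod_uv {x : DD A} (hx : x * w ∈ Ideal.span ({u, v} : Set (DD A))) :
    x ∈ Ideal.span ({u, v} : Set (DD A)) := by
  refine (isGB_uv A).regular mo ?_ (unit_X A 3) ?_ hx
  · intro g hg
    simp only [Set.mem_insert_iff, Set.mem_singleton_iff] at hg
    rcases hg with rfl | rfl
    · exact unit_X A 0
    · exact unit_X A 1
  · intro g hg
    simp only [Set.mem_insert_iff, Set.mem_singleton_iff] at hg
    rcases hg with rfl | rfl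
    · rw [(X_top A 0).1, (X_top A 3).1]
      exact disj fun j => by fin_cases j <;> simp
    · rw [(X_top A 1).1, (X_top A 3).1]
      exact disj fun j => by fin_cases j <;> simp

theorem isGB_q1 : IsGB mo ({q1 A} : Set (DD A)) := by
  have := (isGB_empty (R := A) mo).insert mo (by simp) (unit_q1 A) (by simp)
  simpa using this

theorem isGB_q2 : IsGB mo ({q2 A} : Set (DD A)) := by
  have := (isGB_empty (R := A) mo).insert mo (by simp) (unit_q2 A) (by simp)
  simpa using this

theorem isGB_q12 : IsGB mo ({q1 A, q2 A} : Set (DD A)) := by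
  refine (isGB_q2 A).insert mo ?_ (unit_q1 A) ?_
  · intro g hg; rw [Set.mem_singleton_iff] at hg; subst hg; exact unit_q2 A
  · intro g hg; rw [Set.mem_singleton_iff] at hg; subst hg
    rw [(q2_top A).1, (q1_top A).1]
    exact disj fun j => by fin_cases j <;> simp

theorem q2_regular_mod_q1 {x : DD A} (hx : x * q2 A ∈ Ideal.span ({q1 A} : Set (DD A))) :
    x ∈ Ideal.span ({q1 A} : Set (DD A)) := by
  refine (isGB_q1 A).regular mo ?_ (unit_q2 A) ?_ hx
  · intro g hg; rw [Set.mem_singleton_iff] at hg; subst hg; exact unit_q1 A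
  · intro g hg; rw [Set.mem_singleton_iff] at hg; subst hg
    rw [(q1_top A).1, (q2_top A).1]
    exact disj fun j => by fin_cases j <;> simp

theorem q3_regular_mod_q12 {x : DD A}
    (hx : x * q3 A ∈ Ideal.span ({q1 A, q2 A} : Set (DD A))) :
    x ∈ Ideal.span ({q1 A, q2 A} : Set (DD A)) := by
  refine (isGB_q12 A).regular mo ?_ (unit_q3 A) ?_ hx
  · intro g hg
    simp only [Set.mem_insert_iff, Set.mem_singleton_iff] at hg
    rcases hg with rfl | rfl
    · exact unit_q1 A
    · exact unit_q2 A
  · intro g hg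
    simp only [Set.mem_insert_iff, Set.mem_singleton_iff] at hg
    rcases hg with rfl | rfl
    · rw [(q1_top A).1, (q3_top A).1]
      exact disj fun j => by fin_cases j <;> simp
    · rw [(q2_top A).1, (q3_top A).1]
      exact disj fun j => by fin_cases j <;> simp

theorem idL_ne_top : Lie3Mod.idL A ≠ ⊤ := by
  intro h
  have h1 : (1 : DD A) ∈ Lie3Mod.idL A := by rw [h]; trivial
  rw [Groth.Agent.Helper19.Lie3.mem_idL_iff, map_one] at h1
  exact one_ne_zero h1

theorem isRegular_L : RingTheory.Sequence.IsRegular (DD A)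
    [Lie3Mod.L1 A, Lie3Mod.L2 A, Lie3Mod.L3 A] := by
  refine isRegular_of3 _ _ _ ?_ ?_ ?_ (idL_ne_top A)
  · intro x hx
    apply α_injective A
    rw [map_zero]
    apply X_regular A 0
    have := congrArg (α A) hx
    rw [map_mul, α_L1, map_zero, mul_comm] at this
    exact this
  · intro x hx
    rw [mem_span_iff_α] at hx ⊢
    simp only [Set.image_singleton, map_mul, α_L1, α_L2] at hx ⊢
    apply v_regular_mod_u A
    rwa [mul_comm]
  · intro x hx
    rw [mem_span_iff_α] at hx ⊢
    simp only [Set.image_insert_eq, Set.image_singleton, map_mul, α_L1, α_L2, α_L3] at hx ⊢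
    apply w_regular_mod_uv A
    rwa [mul_comm]

theorem isRegular_Q : RingTheory.Sequence.IsRegular (DD A)
    [Lie3Mod.Q1 A, Lie3Mod.Q2 A, Lie3Mod.Q3 A] := by
  refine isRegular_of3 _ _ _ ?_ ?_ ?_ ?_
  · intro x hx
    apply α_injective A
    rw [map_zero]
    apply q1_regular A
    have := congrArg (α A) hx
    rw [map_mul, α_Q1, map_zero, mul_comm] at this
    exact this
  · intro x hx
    rw [mem_span_iff_α] at hx ⊢
    simp only [Set.image_singleton, map_mul, α_Q1, α_Q2] at hx ⊢
    apply q2_regular_mod_q1 A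
    rwa [mul_comm]
  · intro x hx
    rw [mem_span_iff_α] at hx ⊢
    simp only [Set.image_insert_eq, Set.image_singleton, map_mul, α_Q1, α_Q2, α_Q3] at hx ⊢
    apply q3_regular_mod_q12 A
    rwa [mul_comm]
  · intro h
    apply idL_ne_top A
    rw [eq_top_iff, ← h]
    exact Groth.Agent.Helper19.Lie3.idI_le_idL A

end Groth.Agent.Helper19.Lie3.NC
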