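import Groth.Agent.Lib.Helper19.Lie3.MainT
import Groth.Agent.Lib.Helper19.Lie3Mod

/-! Transport of the results to the original coordinates. -/

set_option autoImplicit false

namespace Groth.Agent.Helper19.Lie3.NC

open MvPolynomial Finsupp

variable (A : Type*) [CommRing A]

/-- the coordinate change on variables -/
noncomputable def αfun (j : Fin 9) : DD A :=
  if j = 0 then X 0 + X 8 else if j = 1 then X 1 - X 5 else if j = 3 then X 3 - X 7 else X j

/-- the inverse coordinate change on variables -/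
noncomputable def βfun (j : Fin 9) : DD A :=
  if j = 0 then X 0 - X 8 else if j = 1 then X 1 + X 5 else if j = 3 then X 3 + X 7 else X j

/-- the coordinate change -/
noncomputable def α : DD A →ₐ[A] DD A := MvPolynomial.aeval (αfun A)
/-- its inverse -/
noncomputable def β : DD A →ₐ[A] DD A := MvPolynomial.aeval (βfun A)

theorem β_comp_α : (β A).comp (α A) = AlgHom.id A (DD A) := by
  apply MvPolynomial.algHom_ext
  intro j
  fin_cases j <;> simp [α, β, αfun, βfun]

theorem α_comp_β : (α A).comp (β A) = AlgHom.id A (DD A) := by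
  apply MvPolynomial.algHom_ext
  intro j
  fin_cases j <;> simp [α, β, αfun, βfun]

/-- the coordinate change as an equivalence -/
noncomputable def αE : DD A ≃ₐ[A] DD A := AlgEquiv.ofAlgHom (α A) (β A) (α_comp_β A) (β_comp_α A)

theorem αE_apply (x : DD A) : αE A x = α A x := rfl

theorem α_Q1 : α A (Lie3Mod.Q1 A) = q1 A := by
  simp [Lie3Mod.Q1, q1, α, αfun]; ring
theorem α_Q2 : α A (Lie3Mod.Q2 A) = q2 A := by
  simp [Lie3Mod.Q2, q2, α, αfun]; ring
theorem α_Q3 : α A (Lie3Mod.Q3 A) = q3 A := by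
  simp [Lie3Mod.Q3, q3, α, αfun]; ring
theorem α_detM : α A (Lie3Mod.detM A) = dM A := by
  simp [Lie3Mod.detM, dM, α, αfun]; ring
theorem α_L1 : α A (Lie3Mod.L1 A) = u := by
  simp [Lie3Mod.L1, α, αfun]
theorem α_L2 : α A (Lie3Mod.L2 A) = v := by
  simp [Lie3Mod.L2, α, αfun]
theorem α_L3 : α A (Lie3Mod.L3 A) = w := by
  simp [Lie3Mod.L3, α, αfun]

theorem map_idJ : Ideal.map (α A) (Lie3Mod.idJ A) = idJ' A := by
  rw [Lie3Mod.idJ, Ideal.map_span, idJ']
  congr 1
  simp only [Set.image_insert_eq, Set.image_singleton, α_Q1, α_Q2, α_Q3, α_detM]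

theorem map_idI : Ideal.map (α A) (Lie3Mod.idI A) = idI' A := by
  rw [Lie3Mod.idI, Ideal.map_span, idI']
  congr 1
  simp only [Set.image_insert_eq, Set.image_singleton, α_Q1, α_Q2, α_Q3]

theorem mem_idJ_iff_α {x : DD A} : x ∈ Lie3Mod.idJ A ↔ α A x ∈ idJ' A := by
  rw [← map_idJ]
  constructor
  · intro hx; exact Ideal.mem_map_of_mem _ hx
  · intro hx
    have h1 : Ideal.map (αE A : DD A →+* DD A) (Lie3Mod.idJ A) = Ideal.map (α A) (Lie3Mod.idJ A) :=
      rfl
    rw [← h1] at hx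
    have := (Ideal.mem_map_of_equiv (αE A).toRingEquiv (I := Lie3Mod.idJ A) (α A x)).mp hx
    obtain ⟨y, hy, hyx⟩ := this
    have : y = x := (αE A).injective hyx
    rwa [← this]

variable [Nontrivial A]

/-- `J` is the kernel of `Θ ∘ α`. -/
theorem mem_idJ_iff_Θ {x : DD A} : x ∈ Lie3Mod.idJ A ↔ Θ A (α A x) = 0 := by
  rw [mem_idJ_iff_α, idJ'_eq_ker]
  rfl

/-- `L3 = d + h` is a non-zero-divisor modulo `J`. -/
theorem L3_regular_mod_idJ {x : DD A} (hx : Lie3Mod.L3 A * x ∈ Lie3Mod.idJ A) :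
    x ∈ Lie3Mod.idJ A := by
  rw [mem_idJ_iff_α] at hx ⊢
  rw [map_mul, α_L3] at hx
  exact w_regular_mod_J A hx

end Groth.Agent.Helper19.Lie3.NC
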