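import Mathlib.RingTheory.MvPolynomial.MonomialOrder
import Mathlib.RingTheory.MvPolynomial.Groebner
import Mathlib.Data.Finsupp.MonomialOrder
import Mathlib.Data.Finsupp.Weight
import Mathlib.Algebra.Order.Monoid.Prod
import Mathlib.Data.Prod.Lex

/-! Weighted monomial order: compare the weight first, then lexicographically. -/

set_option autoImplicit false

namespace Groth.Agent.Helper19.Lie3

open Finsupp

/-- type synonym carrying the weighted order -/
def WSyn (σ : Type*) (_ω : σ → ℕ) : Type _ := σ →₀ ℕ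

namespace WSyn

variable {σ : Type*} (ω : σ → ℕ)

noncomputable instance : AddCommMonoid (WSyn σ ω) := inferInstanceAs (AddCommMonoid (σ →₀ ℕ))

/-- the identification, as an additive equivalence -/
noncomputable def toW : (σ →₀ ℕ) ≃+ WSyn σ ω := AddEquiv.refl _

variable [LinearOrder σ]

/-- the comparison key -/
noncomputable def key (x : WSyn σ ω) : ℕ ×ₗ Lex (σ →₀ ℕ) :=
  toLex (Finsupp.weight ω ((toW ω).symm x), toLex ((toW ω).symm x))

theorem key_injective : Function.Injective (key ω) := by
  intro x y h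
  have := congrArg (fun z => (ofLex z).2) h
  simpa [key] using this

theorem key_add (x y : WSyn σ ω) : key ω (x + y) = key ω x + key ω y := by
  simp only [key, map_add]
  rfl

noncomputable instance : LinearOrder (WSyn σ ω) := LinearOrder.lift' (key ω) (key_injective ω)

theorem le_iff {x y : WSyn σ ω} : x ≤ y ↔ key ω x ≤ key ω y := Iff.rfl
theorem lt_iff {x y : WSyn σ ω} : x < y ↔ key ω x < key ω y := Iff.rfl

instance : IsOrderedCancelAddMonoid (WSyn σ ω) where
  add_le_add_left a b h c := by
    rw [le_iff, key_add, key_add]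
    exact add_le_add_left (α := ℕ ×ₗ Lex (σ →₀ ℕ)) h _
  le_of_add_le_add_left a b c h := by
    rw [le_iff, key_add, key_add] at h
    exact le_of_add_le_add_left (α := ℕ ×ₗ Lex (σ →₀ ℕ)) h

instance [WellFoundedGT σ] : WellFoundedLT (WSyn σ ω) :=
  ⟨InvImage.wf (key ω) (wellFounded_lt (α := ℕ ×ₗ Lex (σ →₀ ℕ)))⟩

end WSyn

open WSyn in
/-- The weighted monomial order: weight first, then lex. -/
noncomputable def wOrd {σ : Type*} [LinearOrder σ] [WellFoundedGT σ] (ω : σ → ℕ) :
    MonomialOrder σ where
  syn := WSyn σ ω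
  toSyn := toW ω
  toSyn_monotone a b h := by
    rw [le_iff]
    simp only [key, AddEquiv.symm_apply_apply]
    rw [Prod.Lex.le_iff]
    have h1 : Finsupp.weight ω a ≤ Finsupp.weight ω b := by
      obtain ⟨c, rfl⟩ := exists_add_of_le h
      simp
    rcases h1.lt_or_eq with h2 | h2
    · exact Or.inl h2
    · exact Or.inr ⟨h2, Finsupp.toLex_monotone h⟩

open scoped MonomialOrder

theorem wOrd_lt_of_weight_lt {σ : Type*} [LinearOrder σ] [WellFoundedGT σ] (ω : σ → ℕ)
    {a b : σ →₀ ℕ} (h : Finsupp.weight ω a < Finsupp.weight ω b) : a ≺[wOrd ω] b := by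
  change WSyn.key ω _ < WSyn.key ω _
  simp only [WSyn.key]
  rw [Prod.Lex.lt_iff]
  exact Or.inl h

end Groth.Agent.Helper19.Lie3
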